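import Cfsg.Agent.OddOrder.PiCore
import Cfsg.Agent.PLocal.PStability
import Cfsg.Agent.PLocal.SL2Section
import Cfsg.Agent.PLocal.PSolvable
import Cfsg.Agent.BenderMethod.Basic
import Cfsg.Agent.Solvable.Fitting

/-!
# Centralizers of self-centralizing normal subgroups of `F(H)`, `H` a Hall `π`-subgroup

For `2, 3 ∉ π` and a solvable group this rests on `p`-stability for `p ≥ 5`.
-/

set_option autoImplicit false
set_option linter.unusedSectionVars false
set_option linter.style.haveILetI false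

open Subgroup
open scoped commutatorElement

namespace CfsgLib.HallSCN

variable {G : Type*} [Group G] [Finite G]

/-- The Fitting subgroup without its `q`-part. -/
def fitAway (q : ℕ) (G : Type*) [Group G] : Subgroup G :=
  ⨆ r : {r : Nat.Primes // (r : ℕ) ≠ q}, Cfsg.pCore (r.1 : ℕ) G

theorem fitAway_normal (q : ℕ) : (fitAway q G).Normal :=
  haveI := fun r : {r : Nat.Primes // (r : ℕ) ≠ q} => Cfsg.pCore_normal (r.1 : ℕ) G
  iSup_normal _

/-- The elements whose action on each `O_r(G)` lies in the `r`-core form the Fitting subgroup. -/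
theorem mem_fittingSubgroup_of_forall [Group.IsSolvable G] {x : G}
    (hx : ∀ r : Nat.Primes, haveI := Cfsg.pCore_normal (r : ℕ) G
      (QuotientGroup.mk x : G ⧸ centralizer (Cfsg.pCore (r : ℕ) G : Set G)) ∈
      Cfsg.pCore (r : ℕ) (G ⧸ centralizer (Cfsg.pCore (r : ℕ) G : Set G))) :
    x ∈ Cfsg.fittingSubgroup G := by
  haveI := fun r : Nat.Primes => Cfsg.pCore_normal (r : ℕ) G
  let T : Subgroup G := ⨅ r : Nat.Primes,
    (Cfsg.pCore (r : ℕ) (G ⧸ centralizer (Cfsg.pCore (r : ℕ) G : Set G))).comap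
      (QuotientGroup.mk' _)
  have hTn : T.Normal := normal_iInf_normal fun r =>
    (Cfsg.pCore_normal _ _).comap _
  have hxT : x ∈ T := mem_iInf.mpr hx
  refine BenderMethod.le_of_forall_primePower (fun q hq y hy hyk => ?_) hxT
  haveI := Fact.mk hq
  obtain ⟨k, hk⟩ := hyk
  haveI := fitAway_normal (G := G) q
  set W := T ⊓ centralizer (fitAway q G : Set G) with hW
  haveI : W.Normal := inferInstance
  -- `y` centralizes the other parts of `F(G)`
  have hyW : y ∈ W := by
    refine mem_inf.mpr ⟨hy, ?_⟩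
    have hle : fitAway q G ≤ centralizer {y} := by
      refine iSup_le fun r z hz => mem_centralizer_singleton_iff.mpr ?_
      haveI := Fact.mk r.1.2
      have h1 := mem_iInf.mp hy r.1
      set c : G ⧸ centralizer (Cfsg.pCore (r.1 : ℕ) G : Set G) := QuotientGroup.mk y with hc
      obtain ⟨j, hj⟩ := PLocal.isPGroup_pCore (r.1 : ℕ)
        (G ⧸ centralizer (Cfsg.pCore (r.1 : ℕ) G : Set G)) ⟨c, h1⟩
      have hj' : c ^ (r.1 : ℕ) ^ j = 1 := congrArg Subtype.val hj
      have hk' : c ^ q ^ k = 1 := by rw [hc, ← QuotientGroup.mk_pow, hk, QuotientGroup.mk_one]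
      have h2 : orderOf c = 1 := Nat.eq_one_of_dvd_coprimes
        (Nat.coprime_pow_primes j k r.1.2 hq r.2)
        (orderOf_dvd_of_pow_eq_one hj') (orderOf_dvd_of_pow_eq_one hk')
      have h3 := (QuotientGroup.eq_one_iff y).mp (orderOf_eq_one_iff.mp h2)
      exact mem_centralizer_iff.mp h3 z hz
    exact mem_centralizer_iff.mpr fun z hz => mem_centralizer_singleton_iff.mp (hle hz)
  -- `W` is nilpotent
  refine Solvable.le_fittingSubgroup (N := W) ?_ hyW
  set N := fitAway q G
  let f : W →* G ⧸ N := (QuotientGroup.mk' N).comp W.subtype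
  have hker : f.ker ≤ center W := by
    intro w hw
    have hwN : (w : G) ∈ N := (QuotientGroup.eq_one_iff _).mp hw
    rw [mem_center_iff]
    intro v
    exact Subtype.ext (mem_centralizer_iff.mp v.2.2 _ hwN).symm
  have hp : IsPGroup q f.range := by
    rintro ⟨_, w, rfl⟩
    have hwT : (w : G) ∈ T := w.2.1
    have h1 := mem_iInf.mp hwT ⟨q, hq⟩
    obtain ⟨a, ha⟩ := PLocal.isPGroup_pCore q (G ⧸ centralizer (Cfsg.pCore q G : Set G)) ⟨_, h1⟩
    have ha' : ((w : G) ^ q ^ a : G) ∈ centralizer (Cfsg.pCore q G : Set G) := by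
      rw [← QuotientGroup.eq_one_iff, QuotientGroup.mk_pow]
      exact congrArg Subtype.val ha
    have hc : (w : G) ^ q ^ a ∈ centralizer (Cfsg.fittingSubgroup G : Set G) := by
      refine mem_centralizer_iff.mpr fun z hz => ?_
      have hle : Cfsg.fittingSubgroup G ≤ centralizer {(w : G) ^ q ^ a} := by
        rw [Solvable.fittingSubgroup_eq_iSup]
        refine iSup_le fun r z hz => mem_centralizer_singleton_iff.mpr ?_
        by_cases hr : (r : ℕ) = q
        · exact mem_centralizer_iff.mp ha' z (hr ▸ hz)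
        · exact mem_centralizer_iff.mp (pow_mem w.2.2 _) z
            (le_iSup (fun r : {r : Nat.Primes // (r : ℕ) ≠ q} => Cfsg.pCore (r.1 : ℕ) G) ⟨r, hr⟩ hz)
      exact mem_centralizer_singleton_iff.mp (hle hz)
    have hF := Solvable.centralizer_fittingSubgroup_le hc
    have hle : Cfsg.fittingSubgroup G ≤ Cfsg.pCore q G ⊔ N := by
      rw [Solvable.fittingSubgroup_eq_iSup]
      refine iSup_le fun r => ?_
      by_cases hr : (r : ℕ) = q
      · rw [hr]; exact le_sup_left
      · exact le_sup_of_le_right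
          (le_iSup (fun r : {r : Nat.Primes // (r : ℕ) ≠ q} => Cfsg.pCore (r.1 : ℕ) G) ⟨r, hr⟩)
    have hm : QuotientGroup.mk' N ((w : G) ^ q ^ a) ∈ (Cfsg.pCore q G).map (QuotientGroup.mk' N) := by
      have h2 : (Cfsg.pCore q G ⊔ N).map (QuotientGroup.mk' N) ≤
          (Cfsg.pCore q G).map (QuotientGroup.mk' N) := by
        rw [Subgroup.map_sup, (map_eq_bot_iff (f := QuotientGroup.mk' N) (H := N)).mpr
          (by rw [QuotientGroup.ker_mk']), sup_bot_eq]
      exact h2 (mem_map_of_mem _ (hle hF))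
    obtain ⟨b, hb⟩ := (PLocal.isPGroup_pCore q G).map (QuotientGroup.mk' N) ⟨_, hm⟩
    refine ⟨a + b, Subtype.ext ?_⟩
    have hb' := congrArg Subtype.val hb
    simp only [SubmonoidClass.coe_pow, OneMemClass.coe_one] at hb' ⊢
    rw [pow_add, pow_mul]
    show (QuotientGroup.mk' N (w : G) ^ q ^ a) ^ q ^ b = 1
    rw [← map_pow]
    exact hb'
  haveI := hp.isNilpotent
  exact Subgroup.isNilpotent_of_ker_le_center f.rangeRestrict
    (by rw [MonoidHom.ker_rangeRestrict]; exact hker)

/-- The core of the argument, when every prime of `F(G)` is at least `5`. -/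
theorem centralizer_le_of_fitting [Group.IsSolvable G]
    (h5 : ∀ r : ℕ, r.Prime → Cfsg.pCore r G ≠ ⊥ → 5 ≤ r) {A : Subgroup G}
    (hn : Cfsg.fittingSubgroup G ≤ normalizer (A : Set G))
    (hc : Cfsg.fittingSubgroup G ⊓ centralizer (A : Set G) ≤ A) :
    centralizer (A : Set G) ≤ A := by
  intro x hx
  refine hc (mem_inf.mpr ⟨mem_fittingSubgroup_of_forall fun r => ?_, hx⟩)
  haveI := Fact.mk r.2
  haveI := Cfsg.pCore_normal (r : ℕ) G
  by_cases hr : Cfsg.pCore (r : ℕ) G = ⊥
  · have : (QuotientGroup.mk x : G ⧸ centralizer (Cfsg.pCore (r : ℕ) G : Set G)) = 1 := by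
      rw [QuotientGroup.eq_one_iff, hr]
      exact mem_centralizer_iff.mpr fun y hy => by simp [mem_bot.mp hy]
    rw [this]; exact one_mem _
  have h5' := h5 r r.2 hr
  refine PLocal.isPStableOn_of_no_section (by omega)
    (PLocal.not_hasSL2Section_of_isPSolvable h5' PLocal.isPSolvable_of_isSolvable)
    (Cfsg.pCore (r : ℕ) G) (PLocal.isPGroup_pCore _ G) x ?_
  -- quadratic action
  set V := Cfsg.pCore (r : ℕ) G
  have hVF : V ≤ Cfsg.fittingSubgroup G := Solvable.pCore_le_fittingSubgroup _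
  rw [commutator_eq_bot_iff_le_centralizer]
  refine le_trans ?_ (centralizer_le (zpowers_le.mpr hx) : _)
  have hAx : V ⊓ centralizer (A : Set G) ≤ A := fun y hy => hc ⟨hVF hy.1, hy.2⟩
  refine le_trans ?_ ((le_centralizer_iff.mp le_rfl : A ≤ centralizer (centralizer (A : Set G) : Set G)))
  refine (commutator_le.mpr fun v hv w hw => hAx ?_)
  refine mem_inf.mpr ⟨?_, ?_⟩
  · rw [commutatorElement_def, mul_assoc, mul_assoc]
    refine mul_mem hv ?_
    rw [← mul_assoc]
    exact (inferInstance : V.Normal).conj_mem _ (inv_mem hv) w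
  · have hwc : w ∈ centralizer (A : Set G) := zpowers_le.mpr hx hw
    have hv' : v * w * v⁻¹ ∈ centralizer (A : Set G) := by
      refine mem_centralizer_iff.mpr fun a ha => ?_
      have ha' : v⁻¹ * a * v ∈ A := by
        have := (mem_normalizer_iff.mp (inv_mem (hn (hVF hv))) a).mp ha
        rwa [inv_inv] at this
      have h := mem_centralizer_iff.mp hwc _ ha'
      calc a * (v * w * v⁻¹) = v * (v⁻¹ * a * v * w) * v⁻¹ := by group
        _ = v * (w * (v⁻¹ * a * v)) * v⁻¹ := by rw [h]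
        _ = v * w * v⁻¹ * a := by group
    rw [commutatorElement_def]
    exact mul_mem hv' (inv_mem hwc)

/-- The theorem. -/
theorem centralizer_le_sup [Group.IsSolvable G] {π : Set ℕ} (h2 : 2 ∉ π) (h3 : 3 ∉ π)
    {H : Subgroup G} (hH : Cfsg.IsPiHall π H) {A : Subgroup G}
    (hA : Cfsg.IsSCN ((Cfsg.fittingSubgroup H).map H.subtype) A) :
    centralizer (A : Set G) ≤ A ⊔ Cfsg.piCore {q | q ∉ π} G ∧
      A ⊓ Cfsg.piCore {q | q ∉ π} G = ⊥ ∧ A ≤ centralizer (A : Set G) := by
  set F := (Cfsg.fittingSubgroup H).map H.subtype with hF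
  obtain ⟨hAF, hFN, hFC⟩ := hA
  have hAC : A ≤ centralizer (A : Set G) := hFC.ge.trans inf_le_right
  set O := Cfsg.piCore {q | q ∉ π} G with hO
  have hOp : OddOrder.IsPiSubgroup {q | q ∉ π} O := OddOrder.isPiSubgroup_piCore _ G
  have hFH : F ≤ H := map_subtype_le _
  have hHO : H ⊓ O = ⊥ := by
    rw [← card_eq_one]
    by_contra hne
    obtain ⟨q, hq, hd⟩ := Nat.exists_prime_and_dvd hne
    exact hOp q hq (hd.trans (card_dvd_of_le inf_le_right))
      (hH.1 q hq (hd.trans (card_dvd_of_le inf_le_left)))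
  refine ⟨?_, le_bot_iff.mp ((inf_le_inf_right O (hAF.trans hFH)).trans hHO.le), hAC⟩
  set f := QuotientGroup.mk' O with hf
  have hfs : Function.Surjective f := QuotientGroup.mk'_surjective O
  haveI : Group.IsSolvable (G ⧸ O) := Group.isSolvable_of_surjective hfs
  -- the quotient has no normal `π'`-subgroup
  have hcore : ∀ r : ℕ, r.Prime → Cfsg.pCore r (G ⧸ O) ≠ ⊥ → r ∈ π := by
    intro r hr hne
    by_contra hrπ
    haveI := Fact.mk hr
    haveI := Cfsg.pCore_normal r (G ⧸ O)
    set K := (Cfsg.pCore r (G ⧸ O)).comap f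
    haveI : K.Normal := (inferInstance : (Cfsg.pCore r (G ⧸ O)).Normal).comap f
    have hK : OddOrder.IsPiSubgroup {q | q ∉ π} K := by
      intro s hs hd
      have e : Nat.card K = Nat.card O * Nat.card (Cfsg.pCore r (G ⧸ O)) := by
        show Nat.card (QuotientGroup.mk ⁻¹' (Cfsg.pCore r (G ⧸ O) : Set (G ⧸ O))) = _
        rw [Nat.card_congr (QuotientGroup.preimageMkEquivSubgroupProdSet O _), Nat.card_prod,
          SetLike.coe_sort_coe]
      rw [e] at hd
      rcases hs.dvd_mul.mp hd with h | h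
      · exact hOp s hs h
      · obtain ⟨j, hj⟩ := IsPGroup.iff_card.mp (PLocal.isPGroup_pCore r (G ⧸ O))
        rw [hj] at h
        rw [(Nat.prime_dvd_prime_iff_eq hs hr).mp (hs.dvd_of_dvd_pow h)]
        exact hrπ
    apply hne
    rw [← map_comap_eq_self_of_surjective hfs (Cfsg.pCore r (G ⧸ O))]
    rw [Subgroup.map_eq_bot_iff, hf, QuotientGroup.ker_mk']
    exact OddOrder.le_piCore hK
  set F₀ := Cfsg.fittingSubgroup (G ⧸ O) with hF₀
  haveI : F₀.Normal := Solvable.fittingSubgroup_normal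
  -- `F(G/O)` lies in the image of `H`
  have hF₀π : ∀ s : ℕ, s.Prime → s ∣ Nat.card F₀ → s ∈ π := by
    intro s hs hd
    haveI := Fact.mk hs
    refine hcore s hs fun hbot => ?_
    obtain ⟨z, hz⟩ := exists_prime_orderOf_dvd_card' s hd
    obtain ⟨S⟩ : Nonempty (Sylow s F₀) := inferInstance
    haveI : Group.IsNilpotent F₀ := Solvable.fittingSubgroup_isNilpotent
    have hSn : (S : Subgroup F₀).Normal :=
      Sylow.normal_of_normalizerCondition Group.normalizerCondition_of_isNilpotent S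
    haveI := S.characteristic_of_normal hSn
    haveI : ((S : Subgroup F₀).map F₀.subtype).Normal := inferInstance
    have h1 := (PLocal.le_pCore (N := (S : Subgroup F₀).map F₀.subtype) (S.2.map _)).trans hbot.le
    have h2 : (S : Subgroup F₀) = ⊥ :=
      (map_eq_bot_iff_of_injective _ F₀.subtype_injective).mp (le_bot_iff.mp h1)
    have h3 := S.dvd_card_of_dvd_card hd
    rw [h2, card_bot] at h3
    exact hs.one_lt.ne' (Nat.dvd_one.mp h3)
  have hF₀H : F₀ ≤ H.map f := by
    have hidx : ∀ s : ℕ, s.Prime → s ∈ π → ¬ s ∣ (H.map f).index := fun s hs hsπ h =>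
      hH.2 s hs hsπ (h.trans (index_map_dvd H hfs))
    rw [← relIndex_eq_one]
    by_contra hne
    obtain ⟨s, hs, hd⟩ := Nat.exists_prime_and_dvd hne
    refine hidx s hs (hF₀π s hs (hd.trans (relIndex_dvd_card _ _))) (hd.trans ?_)
    -- `|F₀ : F₀ ∩ H̄| = |F₀ H̄ : H̄|`
    set K := H.map f
    have e1 : F₀.relIndex (K ⊔ F₀) = F₀.relIndex K := relIndex_sup_right (H := K) (K := F₀)
    have mul : ∀ {X Y : Subgroup (G ⧸ O)}, X ≤ Y → Nat.card X * X.relIndex Y = Nat.card Y :=
      fun {X Y} h => relIndex_bot_left X ▸ relIndex_bot_left Y ▸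
        relIndex_mul_relIndex ⊥ X Y bot_le h
    have h1 := mul (le_sup_left : K ≤ K ⊔ F₀)
    have h2 := mul (le_sup_right : F₀ ≤ K ⊔ F₀)
    have h3 := mul (inf_le_left : F₀ ⊓ K ≤ F₀)
    have h4 := mul (inf_le_right : F₀ ⊓ K ≤ K)
    rw [inf_relIndex_right] at h4
    rw [inf_relIndex_left] at h3
    rw [e1, ← h3] at h2
    rw [← h4, ← h2] at h1
    have h5 : K.relIndex (K ⊔ F₀) = K.relIndex F₀ := by
      refine mul_left_cancel₀ (mul_ne_zero (Nat.card_pos (α := (F₀ ⊓ K : Subgroup _))).ne'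
        (index_ne_zero_of_finite : F₀.relIndex K ≠ 0)) ?_
      change Nat.card (F₀ ⊓ K : Subgroup _) * F₀.relIndex K * K.relIndex (K ⊔ F₀) =
        Nat.card (F₀ ⊓ K : Subgroup _) * F₀.relIndex K * K.relIndex F₀
      rw [h1]; ring
    rw [← h5]
    exact relIndex_dvd_index_of_le le_sup_left
  -- its preimage in `H` lies in `F(H)`
  have hW : F₀.comap f ⊓ H ≤ F := by
    intro w hw
    refine ⟨⟨w, hw.2⟩, ?_, rfl⟩
    set W := (F₀.comap f).subgroupOf H
    haveI : W.Normal := ((inferInstance : F₀.Normal).comap f).subgroupOf H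
    refine Solvable.le_fittingSubgroup (N := W) ?_ hw.1
    haveI : Group.IsNilpotent F₀ := Solvable.fittingSubgroup_isNilpotent
    let φ : W →* F₀ := (f.comp (H.subtype.comp W.subtype)).codRestrict F₀ fun x => x.2
    have hφ : Function.Injective φ := by
      rw [injective_iff_map_eq_one]
      intro x hx
      have h1 : ((x : H) : G) ∈ H ⊓ O :=
        ⟨(x : H).2, (QuotientGroup.eq_one_iff _).mp (congrArg Subtype.val hx)⟩
      rw [hHO, mem_bot] at h1
      exact Subtype.ext (Subtype.ext h1)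
    exact Subgroup.isNilpotent_of_ker_le_center φ.rangeRestrict (by
      rw [MonoidHom.ker_rangeRestrict, (MonoidHom.ker_eq_bot_iff φ).mpr hφ]; exact bot_le)
  have hlift : ∀ u ∈ F₀, ∃ w ∈ F₀.comap f ⊓ H, f w = u := by
    intro u hu
    obtain ⟨w, hw, rfl⟩ := hF₀H hu
    exact ⟨w, ⟨hu, hw⟩, rfl⟩
  have key : centralizer ((A.map f : Subgroup (G ⧸ O)) : Set (G ⧸ O)) ≤ A.map f := by
    refine centralizer_le_of_fitting (fun r hr hne => ?_) ?_ ?_
    · have hrπ := hcore r hr hne
      by_contra h5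
      have := hr.two_le
      interval_cases r
      · exact h2 hrπ
      · exact h3 hrπ
      · norm_num at hr
    · intro u hu
      obtain ⟨w, hw, rfl⟩ := hlift u hu
      exact le_normalizer_map f ⟨w, hFN (hW hw), rfl⟩
    · rintro u ⟨hu, huA⟩
      obtain ⟨w, hw, rfl⟩ := hlift u hu
      refine ⟨w, ?_, rfl⟩
      have hwF := hW hw
      rw [← hFC]
      refine ⟨hwF, mem_centralizer_iff.mpr fun a ha => ?_⟩
      have hm : w * a * w⁻¹ * a⁻¹ ∈ H ⊓ O := by
        have hwH : w ∈ H := hw.2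
        have haH : a ∈ H := hFH (hAF ha)
        refine mem_inf.mpr ⟨H.mul_mem (H.mul_mem (H.mul_mem hwH haH) (H.inv_mem hwH)) (H.inv_mem haH),
          (QuotientGroup.eq_one_iff _).mp ?_⟩
        show f _ = 1
        rw [map_mul, map_mul, map_mul, map_inv, map_inv,
          (mem_centralizer_iff.mp huA (f a) (mem_map_of_mem f ha)).symm]
        group
      rw [hHO, mem_bot] at hm
      calc a * w = (w * a * w⁻¹ * a⁻¹)⁻¹ * (w * a) := by group
        _ = w * a := by rw [hm, inv_one, one_mul]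
  intro c hc
  obtain ⟨a, ha, hac⟩ := key (show f c ∈ centralizer ((A.map f : Subgroup (G ⧸ O)) : Set (G ⧸ O)) from
    mem_centralizer_iff.mpr fun u hu => by
      obtain ⟨b, hb, rfl⟩ := hu
      rw [← map_mul, ← map_mul, mem_centralizer_iff.mp hc b hb])
  have : a⁻¹ * c ∈ O := (QuotientGroup.eq_one_iff _).mp (by
    show f _ = 1
    rw [map_mul, map_inv, hac, inv_mul_cancel])
  rw [show c = a * (a⁻¹ * c) by group]
  exact mul_mem_sup ha this

end CfsgLib.HallSCN
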